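import Groth.Agent.UnramFibre.Basic
import Groth.Prelude.Def_SGA3x
import Mathlib.AlgebraicGeometry.Morphisms.LocalFlatDescent
import Mathlib.RingTheory.FiniteType
import Mathlib.CategoryTheory.MorphismProperty.Limits

/-!
# Groups of multiplicative type of finite type are locally of finite type; fibrewise monomorphisms
-/

set_option autoImplicit false
set_option backward.isDefEq.respectTransparency.types false

universe u

open CategoryTheory CategoryTheory.Limits MonoidalCategory CartesianMonoidalCategory AlgebraicGeometry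

namespace Groth.Agent.MultTypeMono

theorem locallyOfFiniteType_diag (R : Type u) [CommRing R] (M : Type) [AddCommGroup M] [AddGroup.FG M] :
    LocallyOfFiniteType (Red.diag R M).hom := by
  have : AddMonoid.FG M := AddGroup.fg_iff_addMonoid_fg.1 inferInstance
  have : Monoid.FG (Multiplicative M) := AddMonoid.fg_iff_mul_fg.1 inferInstance
  show LocallyOfFiniteType (Spec.map (CommRingCat.ofHom (algebraMap R (MonoidAlgebra R (Multiplicative M)))))
  rw [HasRingHomProperty.Spec_iff (P := @LocallyOfFiniteType)]
  exact RingHom.finiteType_algebraMap.2 inferInstance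

theorem locallyOfFiniteType_DS (S : Scheme.{u}) (M : Type) [AddCommGroup M] [AddGroup.FG M] :
    LocallyOfFiniteType (Red.DS S M).hom :=
  MorphismProperty.pullback_snd _ _ (locallyOfFiniteType_diag (ULift.{u} ℤ) M)

variable {S : Scheme.{u}}

theorem locallyOfFiniteType_of_isMultTypeFT (H : Over S) [GrpObj H] (hH : SGA3x.IsMultTypeFT H) :
    LocallyOfFiniteType H.hom := by
  obtain ⟨S', f, hfl, hsurj, hcov, hloc⟩ := hH
  have h' : LocallyOfFiniteType (pullback.snd H.hom f) := by
    choose U hU M _ hM hiso using hloc
    have hsup : iSup U = ⊤ := top_le_iff.1 fun x _ => TopologicalSpace.Opens.mem_iSup.2 ⟨x, hU x⟩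
    refine IsZariskiLocalAtTarget.of_iSup_eq_top (P := @LocallyOfFiniteType) U hsup fun x => ?_
    obtain ⟨e⟩ := hiso x
    have : AddGroup.FG (M x) := hM x
    have hl := locallyOfFiniteType_DS (U x : Scheme.{u}) (M x)
    let g : Red.bc ((U x).ι ≫ f) H ⟶ Red.DS (U x : Scheme.{u}) (M x) := e.hom.hom.hom
    have hg : IsIso g := by
      have : IsIso ((Grp.forget _).map e.hom) := inferInstance
      exact this
    have : IsIso g.left := inferInstanceAs (IsIso ((Over.forget _).map g))
    have hbc : LocallyOfFiniteType (pullback.snd H.hom ((U x).ι ≫ f)) := by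
      have hw : g.left ≫ (Red.DS (U x : Scheme.{u}) (M x)).hom = pullback.snd H.hom ((U x).ι ≫ f) := Over.w g
      rw [← hw, MorphismProperty.cancel_left_of_respectsIso (P := @LocallyOfFiniteType)]
      exact hl
    rw [← (isPullback_morphismRestrict (pullback.snd H.hom f) (U x)).flip.isoPullback_hom_snd,
      MorphismProperty.cancel_left_of_respectsIso (P := @LocallyOfFiniteType),
      ← MorphismProperty.cancel_left_of_respectsIso (P := @LocallyOfFiniteType)
        (pullbackLeftPullbackSndIso H.hom f (U x).ι).inv, pullbackLeftPullbackSndIso_inv_snd_snd]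
    exact hbc
  rw [IsZariskiLocalAtTarget.iff_of_iSup_eq_top (P := @LocallyOfFiniteType) _ (iSup_affineOpens_eq_top S)]
  rintro ⟨V, hV⟩
  obtain ⟨W, hWc, hWV⟩ := hcov V hV
  have hle : W ≤ f ⁻¹ᵁ V := fun w hw => hWV.le ⟨w, hw, rfl⟩
  let b : W.toScheme ⟶ V.toScheme := f.resLE V W hle
  have hb : b ≫ V.ι = W.ι ≫ f := Scheme.Hom.resLE_comp_ι f hle
  have : IsAffine V.toScheme := hV
  have : CompactSpace W.toScheme := isCompact_iff_compactSpace.1 hWc
  have : QuasiCompact b := inferInstance
  have : Flat b := MorphismProperty.of_postcomp (W := @Flat) (W' := @IsOpenImmersion) b V.ι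
    inferInstance (hb ▸ inferInstance)
  have : Surjective b := ⟨fun v => by
    obtain ⟨w, hw, hwv⟩ := hWV.ge v.2
    refine ⟨⟨w, hw⟩, V.ι.isOpenEmbedding.injective ?_⟩
    rw [← Scheme.Hom.comp_apply, hb, Scheme.Hom.comp_apply]
    exact hwv⟩
  rw [← (isPullback_morphismRestrict H.hom V).flip.isoPullback_hom_snd,
    MorphismProperty.cancel_left_of_respectsIso (P := @LocallyOfFiniteType)]
  refine MorphismProperty.of_pullback_snd_of_descendsAlong (P := @LocallyOfFiniteType)
    (Q := @Surjective ⊓ @Flat ⊓ @QuasiCompact) (g := b)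
    ⟨⟨‹Surjective b›, ‹Flat b›⟩, ‹QuasiCompact b›⟩ ?_
  rw [← pullbackLeftPullbackSndIso_hom_snd, MorphismProperty.cancel_left_of_respectsIso (P := @LocallyOfFiniteType)]
  have hP : ∀ (q : W.toScheme ⟶ S), q = W.ι ≫ f → LocallyOfFiniteType (pullback.snd H.hom q) := by
    rintro _ rfl
    rw [← MorphismProperty.cancel_left_of_respectsIso (P := @LocallyOfFiniteType)
      (pullbackLeftPullbackSndIso H.hom f W.ι).hom, pullbackLeftPullbackSndIso_hom_snd]
    exact MorphismProperty.pullback_snd _ _ h'
  exact hP _ hb

/-- A morphism over `S`, locally of finite type, with monomorphic fibres is a monomorphism. -/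
theorem mono_of_fibres {X Y : Over S} (u : X ⟶ Y) [LocallyOfFiniteType u.left]
    (h : ∀ s : S, Mono ((Over.pullback (S.fromSpecResidueField s)).map u).left) : Mono u.left := by
  rw [UnramFibre.mono_iff_fibres]
  intro y
  let s := Y.hom y
  let i := S.fromSpecResidueField s
  let us := ((Over.pullback i).map u).left
  let j : Spec (Y.left.residueField y) ⟶ pullback Y.hom i :=
    pullback.lift (Y.left.fromSpecResidueField y) (Spec.map (Y.hom.residueFieldMap y))
      (Scheme.Hom.SpecMap_residueFieldMap_fromSpecResidueField Y.hom y).symm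
  have hbig : IsPullback (pullback.fst X.hom i) us u.left (pullback.fst Y.hom i) := by
    refine IsPullback.of_bot ?_ (pullback.lift_fst _ _ _).symm (IsPullback.of_hasPullback Y.hom i)
    rw [Over.w u, show us ≫ pullback.snd Y.hom i = pullback.snd X.hom i from pullback.lift_snd _ _ _]
    exact IsPullback.of_hasPullback X.hom i
  have hj : j ≫ pullback.fst Y.hom i = Y.left.fromSpecResidueField y := pullback.lift_fst _ _ _
  have s1 := (IsPullback.of_hasPullback us j).paste_horiz hbig
  rw [hj] at s1
  have hm : Mono (pullback.snd us j) := by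
    have := h s
    infer_instance
  show Mono (pullback.snd u.left (Y.left.fromSpecResidueField y))
  rw [← IsPullback.isoIsPullback_hom_snd _ _ (IsPullback.of_hasPullback u.left _) s1]
  exact mono_comp _ _

end Groth.Agent.MultTypeMono
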